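import Cfsg.Agent.H96.Spin.Tr
import Cfsg.Agent.H614.Step
import Cfsg.Agent.S0909
import Cfsg.Agent.S0148

/-!
# The absolute value of the basic spin character (S4578, F3)
-/

set_option autoImplicit false

namespace Cfsg.Agent.H96.Spin

open Finset Matrix Cfsg.Agent.H614

universe u

/-! ### Invariant subsets -/

/-- the invariant functions -/
abbrev IF {α : Type u} (g : Equiv.Perm α) : Type u := {φ : α → Bool // ∀ y, φ (g y) = φ y}

theorem inv_same {α : Type u} {g : Equiv.Perm α} (φ : IF g) {x y : α} (h : g.SameCycle x y) : φ.1 y = φ.1 x := by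
  obtain ⟨k, rfl⟩ := h
  have hp : ∀ n : ℕ, ∀ y, φ.1 ((g ^ n) y) = φ.1 y := by
    intro n
    induction n with
    | zero => intro y; rfl
    | succ n ih =>
      intro y
      rw [pow_succ, Equiv.Perm.mul_apply, ih, φ.2]
  cases k with
  | ofNat n => exact hp n x
  | negSucc n =>
    rw [zpow_negSucc]
    have h1 := hp (n + 1) (((g ^ (n + 1))⁻¹) x)
    rw [← h1]
    exact congrArg φ.1 ((g ^ (n + 1)).apply_symm_apply x)

open Classical in
/-- splitting off a cycle -/
noncomputable def splitIF {α : Type u} [Fintype α] [DecidableEq α] (g : Equiv.Perm α) (x : α) :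
    IF g ≃ Bool × IF (rest g x) where
  toFun φ := (φ.1 x, ⟨fun y => φ.1 y, fun y => φ.2 y⟩)
  invFun ψ := ⟨fun y => if h : g.SameCycle x y then ψ.1 else ψ.2.1 ⟨y, h⟩, by
    intro y
    beta_reduce
    by_cases h : g.SameCycle x y
    · rw [dif_pos h, dif_pos (by rwa [Equiv.Perm.sameCycle_apply_right])]
    · rw [dif_neg h, dif_neg (by rwa [Equiv.Perm.sameCycle_apply_right])]
      exact ψ.2.2 ⟨y, h⟩⟩
  left_inv φ := by
    apply Subtype.ext
    funext y
    by_cases h : g.SameCycle x y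
    · simp only [dif_pos h]
      exact (inv_same φ h).symm
    · simp only [dif_neg h]
  right_inv ψ := by
    apply Prod.ext
    · show (if h : g.SameCycle x x then ψ.1 else _) = ψ.1
      rw [dif_pos (Equiv.Perm.SameCycle.refl g x)]
    · apply Subtype.ext
      funext y
      show (if h : g.SameCycle x y then ψ.1 else ψ.2.1 ⟨y, h⟩) = ψ.2.1 y
      rw [dif_neg y.2]

theorem card_IF : ∀ (n : ℕ) {α : Type u} [Fintype α] [DecidableEq α] (g : Equiv.Perm α), Fintype.card α = n →
    Nat.card (IF g) = 2 ^ Multiset.card (ty g) := by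
  intro n
  induction n using Nat.strong_induction_on with
  | _ n ih =>
    intro α _ _ g hn
    rcases isEmpty_or_nonempty α with he | ⟨⟨x⟩⟩
    · have h1 : ty g = 0 := by
        have h2 := ty_sum g
        rw [Fintype.card_eq_zero] at h2
        by_contra hne
        obtain ⟨i, hi⟩ := Multiset.exists_mem_of_ne_zero hne
        have h3 := ty_pos g i hi
        have h4 := Multiset.single_le_sum (fun x _ => Nat.zero_le x) i hi
        omega
      rw [h1, Multiset.card_zero, pow_zero]
      have : Unique (IF g) := ⟨⟨⟨fun _ => true, fun _ => rfl⟩⟩, fun φ => Subtype.ext (funext fun y => he.elim y)⟩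
      exact Nat.card_unique
    · have h1 := card_rest g x
      have h2 := csz_pos g x
      rw [Nat.card_congr (splitIF g x), Nat.card_prod, ih _ (by omega) (rest g x) rfl, ty_step g x, Multiset.card_cons,
        pow_succ]
      simp [mul_comm]

theorem map_eq_iff {N : ℕ} (σ : Equiv.Perm (Fin N)) (I : Finset (Fin N)) :
    I.map σ.toEmbedding = I ↔ ∀ y, σ y ∈ I ↔ y ∈ I := by
  constructor
  · intro h y
    conv_lhs => rw [← h]
    rw [Finset.mem_map]
    constructor
    · rintro ⟨z, hz, he⟩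
      rwa [σ.injective he] at hz
    · intro hy
      exact ⟨y, hy, rfl⟩
  · intro h
    ext y
    rw [Finset.mem_map]
    constructor
    · rintro ⟨z, hz, rfl⟩
      exact (h z).2 hz
    · intro hy
      refine ⟨σ.symm y, ?_, σ.apply_symm_apply y⟩
      rw [← h, σ.apply_symm_apply]
      exact hy

theorem card_inv {N : ℕ} (σ : Equiv.Perm (Fin N)) :
    #{I : Finset (Fin N) | I.map σ.toEmbedding = I} = 2 ^ Multiset.card (ty σ) := by
  rw [← card_IF N σ (Fintype.card_fin N), ← Fintype.card_subtype, ← Nat.card_eq_fintype_card]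
  refine Nat.card_congr ⟨fun I => ⟨fun i => decide (i ∈ I.1), fun y => ?_⟩, fun φ => ⟨univ.filter (fun i => φ.1 i = true), ?_⟩,
    ?_, ?_⟩
  · have h1 := (map_eq_iff σ I.1).1 I.2 y
    simp only [h1]
  · rw [map_eq_iff]
    intro y
    simp only [Finset.mem_filter, Finset.mem_univ, true_and]
    rw [φ.2]
  · intro I
    apply Subtype.ext
    ext y
    simp
  · intro φ
    apply Subtype.ext
    funext y
    simp

/-! ### Even cycles, odd orders -/

theorem exists_even {N : ℕ} {σ : Equiv.Perm (Fin N)} {i : ℕ} (hi : i ∈ ty σ) (he : Even i) :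
    ∃ (x : Fin N) (W : List (Fin N)), x ∉ W ∧ Odd W.length ∧ (x :: W).map σ = W ++ [x] := by
  rw [ty_eq, Multiset.mem_add] at hi
  rcases hi with hi | hi
  swap
  · rw [Multiset.eq_of_mem_replicate hi] at he
    exact absurd he (by decide)
  obtain ⟨c, τ, hcτ, hd, hc, hs⟩ := Equiv.Perm.mem_cycleType_iff.1 hi
  obtain ⟨x, hx, hc2⟩ := id hc
  have ho : orderOf c = i := by rw [hc.orderOf, hs]
  have hipos : 0 < i := by rw [← ho]; exact orderOf_pos c
  obtain ⟨j, rfl⟩ : ∃ j, i = j + 1 := ⟨i - 1, by omega⟩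
  have hx' : ∀ k : ℕ, (c ^ k) x ∈ c.support := by
    intro k
    rw [Equiv.Perm.pow_apply_mem_support, Equiv.Perm.mem_support]
    exact hx
  have hσ : ∀ k : ℕ, σ ((c ^ k) x) = (c ^ (k + 1)) x := by
    intro k
    have h1 : τ ((c ^ k) x) = (c ^ k) x := by
      rcases hd ((c ^ k) x) with h | h
      · exact absurd h (Equiv.Perm.mem_support.1 (hx' k))
      · exact h
    rw [hcτ, Equiv.Perm.mul_apply, h1, pow_succ', Equiv.Perm.mul_apply]
  refine ⟨x, (List.range j).map (fun k => (c ^ (k + 1)) x), ?_, ?_, ?_⟩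
  · intro hm
    obtain ⟨k, hk, hk2⟩ := List.mem_map.1 hm
    rw [List.mem_range] at hk
    have h1 : c ^ (k + 1) = 1 := by
      rw [hc.pow_eq_one_iff]
      exact ⟨x, hx, hk2⟩
    have h2 := orderOf_dvd_of_pow_eq_one h1
    rw [ho] at h2
    have := Nat.le_of_dvd (by omega) h2
    omega
  · rw [List.length_map, List.length_range]
    rcases Nat.even_or_odd j with h | h
    · exact absurd he (by rw [Nat.not_even_iff_odd]; exact h.add_one)
    · exact h
  · have e1 : (x :: (List.range j).map (fun k => (c ^ (k + 1)) x)) = (List.range (j + 1)).map (fun k => (c ^ k) x) := by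
      rw [List.range_succ_eq_map, List.map_cons, List.map_map]
      rfl
    rw [e1, List.map_map]
    have e2 : (fun a => σ a) ∘ (fun k => (c ^ k) x) = fun k => (c ^ (k + 1)) x := by
      funext k
      exact hσ k
    have e3 : (⇑σ ∘ fun k => (c ^ k) x) = fun k => (c ^ (k + 1)) x := e2
    rw [e3, List.range_succ, List.map_append, List.map_singleton, ← ho, pow_orderOf_eq_one]
    rfl

theorem exists_odd {N : ℕ} {σ : Equiv.Perm (Fin N)} (h : ∀ i ∈ ty σ, Odd i) : ∃ m, Odd m ∧ σ ^ m = 1 := by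
  refine ⟨orderOf σ, ?_, pow_orderOf_eq_one σ⟩
  rw [← Equiv.Perm.lcm_cycleType]
  have h1 : ∀ i ∈ σ.cycleType, Odd i := by
    intro i hi
    apply h
    rw [ty_eq, Multiset.mem_add]
    exact Or.inl hi
  generalize σ.cycleType = s at h1
  induction s using Multiset.induction_on with
  | empty => simp
  | cons a s ih =>
    rw [Multiset.lcm_cons]
    have h2 := h1 a (Multiset.mem_cons_self a s)
    have h3 := ih fun i hi => h1 i (Multiset.mem_cons_of_mem hi)
    rw [← Nat.not_even_iff_odd, even_iff_two_dvd]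
    intro h4
    have h5 : 2 ∣ a * s.lcm := h4.trans (lcm_dvd_mul a s.lcm)
    rcases (Nat.prime_two.dvd_mul).1 h5 with h6 | h6
    · exact (Nat.not_even_iff_odd.2 h2) (even_iff_two_dvd.2 h6)
    · exact (Nat.not_even_iff_odd.2 h3) (even_iff_two_dvd.2 h6)

/-! ### The theorem -/

variable {N : ℕ} {ι : Type*} [Fintype ι] [DecidableEq ι] {γ : Fin N → Matrix ι ι ℂ}

theorem trace_mul {σ : Equiv.Perm (Fin N)} {A B : Matrix ι ι ℂ} (h : Gam γ) (p : Per γ σ A B)
    (hcard : Fintype.card ι = 2 ^ (N / 2))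
    (hs : ∀ A : Matrix ι ι ℂ, (∀ i, A * γ i = γ i * A) → ∃ c : ℂ, A = c • (1 : Matrix ι ι ℂ))
    (ho : ∀ i ∈ ty σ, Odd i) :
    trace A * trace B * (if Even N then 1 else 2) = 2 ^ Multiset.card (ty σ) := by
  have hne : Nonempty ι := by
    rw [← Fintype.card_pos_iff, hcard]
    positivity
  obtain ⟨m, hm, hm1⟩ := exists_odd ho
  obtain ⟨c, hc1, hc2⟩ := h.sum_TI hs A
  set d : ℂ := (Fintype.card ι : ℂ) with hd
  have h1 : c * trace B = 2 ^ Multiset.card (ty σ) * d := by
    have h2 : trace ((∑ I : Finset (Fin N), TI γ I A) * B) = c * trace B := by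
      rw [hc1, Matrix.smul_mul, one_mul, trace_smul, smul_eq_mul]
    rw [← h2, Finset.sum_mul, trace_sum]
    rw [← Finset.sum_filter_add_sum_filter_not univ (fun I : Finset (Fin N) => I.map σ.toEmbedding = I)]
    rw [Finset.sum_congr rfl (fun I hI => p.trace_TI_eq h (Finset.mem_filter.1 hI).2 hm hm1),
      Finset.sum_congr (s₁ := univ.filter fun I : Finset (Fin N) => ¬ I.map σ.toEmbedding = I) rfl
      (fun I hI => p.trace_TI_ne h (Finset.mem_filter.1 hI).2), Finset.sum_const_zero, add_zero, Finset.sum_const,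
      card_inv, nsmul_eq_mul]
    push_cast
    rfl
  have hd0 : d ≠ 0 := by
    rw [hd, hcard]
    push_cast
    exact pow_ne_zero _ two_ne_zero
  have h3 : (2 : ℂ) ^ N * (trace A * trace B) = 2 ^ Multiset.card (ty σ) * (d * d) := by
    calc (2 : ℂ) ^ N * (trace A * trace B) = 2 ^ N * trace A * trace B := by ring
      _ = c * trace B * d := by rw [← hc2]; ring
      _ = _ := by rw [h1]; ring
  have hdd : d * d * (if Even N then 1 else 2) = 2 ^ N := by
    rw [hd, hcard]
    push_cast
    rw [← pow_add]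
    split_ifs with he
    · rw [mul_one]
      congr 1
      obtain ⟨k, hk⟩ := he
      omega
    · rw [← pow_succ]
      congr 1
      obtain ⟨k, hk⟩ := Nat.not_even_iff_odd.1 he
      omega
  have h4 : d * d ≠ 0 := mul_ne_zero hd0 hd0
  have h5 : d * d * (trace A * trace B * (if Even N then 1 else 2)) = d * d * 2 ^ Multiset.card (ty σ) := by
    calc d * d * (trace A * trace B * (if Even N then 1 else 2)) =
        (d * d * (if Even N then 1 else 2)) * (trace A * trace B) := by ring
      _ = 2 ^ N * (trace A * trace B) := by rw [hdd]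
      _ = _ := by rw [h3]; ring
  exact mul_left_cancel₀ h4 h5

theorem trace_even' {σ : Equiv.Perm (Fin N)} {A B : Matrix ι ι ℂ} (h : Gam γ) (p : Per γ σ A B)
    (ho : ¬ ∀ i ∈ ty σ, Odd i) : trace A = 0 := by
  push Not at ho
  obtain ⟨i, hi, he⟩ := ho
  obtain ⟨x, W, hx, hW, hσ⟩ := exists_even hi (Nat.not_odd_iff_even.1 he)
  exact p.trace_even h hx hW hσ

/-- **F3 of S4578, unbundled.** -/
theorem trace_sq_of {G : Type*} [Group G] [Finite G] {π : G → Equiv.Perm (Fin N)} {f : G →* (Matrix ι ι ℂ)ˣ}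
    (card : Fintype.card ι = 2 ^ (N / 2)) (sq : ∀ i, γ i * γ i = -1)
    (anti : ∀ i j, i ≠ j → γ i * γ j = -(γ j * γ i))
    (equiv : ∀ g i, (f g : Matrix ι ι ℂ) * γ i = γ (π g i) * (f g : Matrix ι ι ℂ))
    (scalar : ∀ A : Matrix ι ι ℂ, (∀ i, A * γ i = γ i * A) → ∃ c : ℂ, A = c • (1 : Matrix ι ι ℂ)) (g : G) :
    ((∀ i ∈ ty (π g), Odd i) →
      Matrix.trace (f g : Matrix ι ι ℂ) * (starRingEnd ℂ) (Matrix.trace (f g : Matrix ι ι ℂ)) *
        (if Even N then 1 else 2) = 2 ^ Multiset.card (ty (π g))) ∧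
    (¬ (∀ i ∈ ty (π g), Odd i) → Matrix.trace (f g : Matrix ι ι ℂ) = 0) := by
  have h : Gam γ := ⟨sq, anti⟩
  have p : Per γ (π g) (f g : Matrix ι ι ℂ) (f g⁻¹ : Matrix ι ι ℂ) :=
    ⟨by rw [← Units.val_mul, ← map_mul, mul_inv_cancel, map_one, Units.val_one], equiv g⟩
  have hconj : (starRingEnd ℂ) (Matrix.trace (f g : Matrix ι ι ℂ)) = Matrix.trace (f g⁻¹ : Matrix ι ι ℂ) := by
    obtain ⟨n, ρ, hρ⟩ := S0148.isCharacter_of_matrix ((Units.coeHom (Matrix ι ι ℂ)).comp f)
    have h1 := S0909.char_inv ρ g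
    rw [hρ] at h1
    exact h1.symm
  exact ⟨fun ho => by rw [hconj]; exact trace_mul h p card scalar ho, fun ho => trace_even' h p ho⟩

end Cfsg.Agent.H96.Spin
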