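import Mathlib

/-!
# Anticommuting matrices (S4578, F3): the average over the monomials

`γ i * γ i = -1`, `γ i * γ j = - γ j * γ i`; `T γ i X = - γ i X γ i`; `TI γ I` the product of the `T γ i`, `i ∈ I`.
If only scalars commute with the `γ i` then `∑ I, TI γ I X = (2 ^ N tr X / d) • 1`.
-/

set_option autoImplicit false

namespace Cfsg.Agent.H96.Spin

open Finset Matrix

variable {N : ℕ} {ι : Type*} [Fintype ι] [DecidableEq ι]

local notation "Mat" => Matrix ι ι ℂ

/-- the relations -/
structure Gam (γ : Fin N → Matrix ι ι ℂ) : Prop where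
  sq : ∀ i, γ i * γ i = -1
  anti : ∀ i j, i ≠ j → γ i * γ j = -(γ j * γ i)

/-- monomials -/
def gl (γ : Fin N → Matrix ι ι ℂ) (L : List (Fin N)) : Matrix ι ι ℂ := (L.map γ).prod

/-- inverses of the monomials -/
def gi (γ : Fin N → Matrix ι ι ℂ) : List (Fin N) → Matrix ι ι ℂ
  | [] => 1
  | a :: L => gi γ L * (-γ a)

/-- conjugation by `γ i` -/
def T (γ : Fin N → Matrix ι ι ℂ) (i : Fin N) : Module.End ℂ (Matrix ι ι ℂ) where
  toFun X := -(γ i * X * γ i)
  map_add' X Y := by rw [mul_add, add_mul, neg_add]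
  map_smul' c X := by rw [Matrix.mul_smul, Matrix.smul_mul, smul_neg, RingHom.id_apply]

theorem T_apply (γ : Fin N → Matrix ι ι ℂ) (i : Fin N) (X : Matrix ι ι ℂ) : T γ i X = -(γ i * X * γ i) := rfl

namespace Gam

variable {γ : Fin N → Matrix ι ι ℂ} (h : Gam γ)
include h

theorem gl_mul_gi (L : List (Fin N)) : gl γ L * gi γ L = 1 := by
  induction L with
  | nil => simp [gl, gi]
  | cons a L ih =>
    have e : gl γ (a :: L) = γ a * gl γ L := rfl
    rw [e, gi]
    calc γ a * gl γ L * (gi γ L * -γ a) = γ a * (gl γ L * gi γ L) * -γ a := by noncomm_ring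
      _ = 1 := by rw [ih, mul_one, mul_neg, h.sq, neg_neg]

theorem gi_mul_gl (L : List (Fin N)) : gi γ L * gl γ L = 1 := by
  induction L with
  | nil => simp [gl, gi]
  | cons a L ih =>
    have e : gl γ (a :: L) = γ a * gl γ L := rfl
    rw [e, gi]
    calc gi γ L * -γ a * (γ a * gl γ L) = gi γ L * (-(γ a * γ a)) * gl γ L := by noncomm_ring
      _ = 1 := by rw [h.sq, neg_neg, mul_one, ih]

theorem comm_gl (j : Fin N) (L : List (Fin N)) :
    γ j * gl γ L = (-1 : ℂ) ^ (L.filter (fun a => a ≠ j)).length • (gl γ L * γ j) := by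
  induction L with
  | nil => simp [gl]
  | cons a L ih =>
    have e : gl γ (a :: L) = γ a * gl γ L := rfl
    rw [e]
    by_cases haj : a = j
    · subst haj
      rw [List.filter_cons_of_neg (by simp)]
      calc γ a * (γ a * gl γ L) = γ a * ((-1 : ℂ) ^ (L.filter (fun b => b ≠ a)).length • (gl γ L * γ a)) := by rw [ih]
        _ = _ := by rw [Matrix.mul_smul, mul_assoc]
    · rw [List.filter_cons_of_pos (by simpa using haj), List.length_cons, pow_succ]
      calc γ j * (γ a * gl γ L) = γ j * γ a * gl γ L := by rw [mul_assoc]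
        _ = -(γ a * (γ j * gl γ L)) := by rw [h.anti j a (Ne.symm haj)]; noncomm_ring
        _ = _ := by rw [ih, Matrix.mul_smul]; simp [mul_assoc]

theorem T_sq (i : Fin N) : T γ i * T γ i = 1 := by
  refine LinearMap.ext fun X => ?_
  rw [Module.End.mul_apply, T_apply, T_apply]
  calc -(γ i * -(γ i * X * γ i) * γ i) = γ i * γ i * X * (γ i * γ i) := by noncomm_ring
    _ = X := by rw [h.sq]; simp

theorem T_comm (i j : Fin N) : Commute (T γ i) (T γ j) := by
  by_cases hij : i = j
  · rw [hij]
  · refine LinearMap.ext fun X => ?_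
    rw [Module.End.mul_apply, Module.End.mul_apply, T_apply, T_apply, T_apply, T_apply]
    calc -(γ i * -(γ j * X * γ j) * γ i) = γ i * γ j * X * (γ j * γ i) := by noncomm_ring
      _ = γ j * γ i * X * (γ i * γ j) := by
        rw [h.anti i j hij, h.anti j i (Ne.symm hij)]; noncomm_ring
      _ = _ := by noncomm_ring

theorem trace_T (i : Fin N) (X : Matrix ι ι ℂ) : trace (T γ i X) = trace X := by
  rw [T_apply, trace_neg, mul_assoc, trace_mul_comm, mul_assoc, h.sq, mul_neg, mul_one, trace_neg, neg_neg]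

end Gam

/-- the product of the `T γ i`, `i ∈ I` -/
noncomputable def TI (γ : Fin N → Matrix ι ι ℂ) (I : Finset (Fin N)) : Module.End ℂ (Matrix ι ι ℂ) :=
  ((I.sort (· ≤ ·)).map (T γ)).prod

namespace Gam

variable {γ : Fin N → Matrix ι ι ℂ} (h : Gam γ)
include h

theorem prod_perm {L L' : List (Fin N)} (hp : L.Perm L') : (L.map (T γ)).prod = (L'.map (T γ)).prod := by
  refine List.Perm.prod_eq' (hp.map _) ?_
  rw [List.pairwise_map]
  exact List.pairwise_of_forall fun i j => h.T_comm i j

theorem TI_insert {I : Finset (Fin N)} {j : Fin N} (hj : j ∉ I) : TI γ (insert j I) = T γ j * TI γ I := by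
  have hp : ((insert j I).sort (· ≤ ·)).Perm (j :: I.sort (· ≤ ·)) := by
    rw [← Multiset.coe_eq_coe, ← Multiset.cons_coe, Finset.sort_eq, Finset.sort_eq, Finset.insert_val_of_notMem hj]
  unfold TI
  rw [h.prod_perm hp, List.map_cons, List.prod_cons]

theorem TI_symm (I : Finset (Fin N)) (j : Fin N) : T γ j * TI γ I = TI γ (symmDiff I {j}) := by
  by_cases hj : j ∈ I
  · have e : symmDiff I {j} = I.erase j := by
      ext a
      simp only [Finset.mem_symmDiff, Finset.mem_singleton, Finset.mem_erase]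
      constructor
      · rintro (⟨h1, h2⟩ | ⟨h1, h2⟩)
        · exact ⟨h2, h1⟩
        · exact absurd (h1 ▸ hj) h2
      · rintro ⟨h1, h2⟩
        exact Or.inl ⟨h2, h1⟩
    have e2 : TI γ I = T γ j * TI γ (I.erase j) := by
      rw [← h.TI_insert (Finset.notMem_erase j I), Finset.insert_erase hj]
    rw [e, e2, ← mul_assoc, h.T_sq, one_mul]
  · have e : symmDiff I {j} = insert j I := by
      ext a
      simp only [Finset.mem_symmDiff, Finset.mem_singleton, Finset.mem_insert]
      constructor
      · rintro (⟨h1, h2⟩ | ⟨h1, h2⟩)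
        · exact Or.inr h1
        · exact Or.inl h1
      · rintro (h1 | h1)
        · exact Or.inr ⟨h1, fun h2 => hj (h1 ▸ h2)⟩
        · exact Or.inl ⟨h1, fun h2 => hj (h2 ▸ h1)⟩
    rw [e, h.TI_insert hj]

theorem T_sum (j : Fin N) : T γ j * ∑ I : Finset (Fin N), TI γ I = ∑ I : Finset (Fin N), TI γ I := by
  rw [Finset.mul_sum]
  refine Finset.sum_nbij' (fun I => symmDiff I {j}) (fun I => symmDiff I {j}) (fun _ _ => Finset.mem_univ _)
    (fun _ _ => Finset.mem_univ _) ?_ ?_ ?_
  · intro I _
    exact symmDiff_symmDiff_cancel_right _ _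
  · intro I _
    exact symmDiff_symmDiff_cancel_right _ _
  · intro I _
    exact h.TI_symm I j

theorem trace_TI (I : Finset (Fin N)) (X : Matrix ι ι ℂ) : trace (TI γ I X) = trace X := by
  unfold TI
  generalize I.sort (· ≤ ·) = L
  induction L with
  | nil => rfl
  | cons a L ih => rw [List.map_cons, List.prod_cons, Module.End.mul_apply, h.trace_T, ih]

/-- **The average.** -/
theorem sum_TI (hs : ∀ A : Matrix ι ι ℂ, (∀ i, A * γ i = γ i * A) → ∃ c : ℂ, A = c • (1 : Matrix ι ι ℂ))
    (X : Matrix ι ι ℂ) : ∃ c : ℂ, ∑ I : Finset (Fin N), TI γ I X = c • (1 : Matrix ι ι ℂ) ∧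
      c * Fintype.card ι = 2 ^ N * trace X := by
  set S : Matrix ι ι ℂ := ∑ I : Finset (Fin N), TI γ I X with hS
  obtain ⟨c, hc⟩ := hs S (by
    intro i
    have h1 : T γ i S = S := by
      have h2 := LinearMap.congr_fun (h.T_sum i) X
      rw [Module.End.mul_apply, LinearMap.sum_apply] at h2
      exact h2
    rw [T_apply] at h1
    calc S * γ i = -(γ i * S * γ i) * γ i := by rw [h1]
      _ = -(γ i * S * (γ i * γ i)) := by noncomm_ring
      _ = γ i * S := by rw [h.sq]; simp)
  refine ⟨c, hc, ?_⟩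
  have h1 : trace S = 2 ^ N * trace X := by
    rw [hS, trace_sum]
    rw [Finset.sum_congr rfl (fun I _ => h.trace_TI I X), Finset.sum_const, Finset.card_univ, Fintype.card_finset,
      Fintype.card_fin, nsmul_eq_mul]
    push_cast
    ring
  rw [← h1, hc, trace_smul, trace_one, smul_eq_mul]

omit h in
theorem TI_apply (I : Finset (Fin N)) (X : Matrix ι ι ℂ) :
    TI γ I X = gl γ (I.sort (· ≤ ·)) * X * gi γ (I.sort (· ≤ ·)) := by
  unfold TI
  generalize I.sort (· ≤ ·) = L
  induction L with
  | nil => simp [gl, gi]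
  | cons a L ih =>
    rw [List.map_cons, List.prod_cons, Module.End.mul_apply, ih, T_apply]
    have e : gl γ (a :: L) = γ a * gl γ L := rfl
    rw [e, gi]
    noncomm_ring

end Gam

end Cfsg.Agent.H96.Spin
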