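import Cfsg.Agent.H96.Spin.Gamma

/-!
# Anticommuting matrices (S4578, F3): traces of matrices permuting the `γ i`
-/

set_option autoImplicit false

namespace Cfsg.Agent.H96.Spin

open Finset Matrix

variable {N : ℕ} {ι : Type*} [Fintype ι] [DecidableEq ι] {γ : Fin N → Matrix ι ι ℂ}

/-- `C` invertible, `C Y = - Y C` -/
theorem trace_eq_zero {C D Y : Matrix ι ι ℂ} (hCD : C * D = 1) (h : C * Y = -(Y * C)) : trace Y = 0 := by
  have hDC : D * C = 1 := mul_eq_one_comm.1 hCD
  have h1 : trace (D * (C * Y)) = trace Y := by rw [← mul_assoc, hDC, one_mul]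
  rw [h, mul_neg, trace_neg, ← mul_assoc, trace_mul_comm, ← mul_assoc, hCD, one_mul] at h1
  have h2 : (2 : ℂ) * trace Y = 0 := by linear_combination -h1
  simpa using h2

namespace Gam

variable (h : Gam γ)
include h

theorem gl_perm {L L' : List (Fin N)} (hp : L.Perm L') (hn : L.Nodup) : gl γ L' = gl γ L ∨ gl γ L' = -gl γ L := by
  induction hp with
  | nil => exact Or.inl rfl
  | cons a _ ih =>
    rcases ih (List.nodup_cons.1 hn).2 with h1 | h1
    · left
      show γ a * gl γ _ = γ a * gl γ _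
      rw [h1]
    · right
      show γ a * gl γ _ = -(γ a * gl γ _)
      rw [h1, mul_neg]
  | swap a b l =>
    right
    have hab : a ≠ b := by
      rintro rfl
      simp at hn
    show γ a * (γ b * gl γ l) = -(γ b * (γ a * gl γ l))
    rw [← mul_assoc, h.anti a b hab, neg_mul, mul_assoc]
  | trans hp1 _ ih1 ih2 =>
    rcases ih1 hn with h1 | h1 <;> rcases ih2 (hp1.nodup_iff.1 hn) with h2 | h2
    · exact Or.inl (h2.trans h1)
    · exact Or.inr (by rw [h2, h1])
    · exact Or.inr (h2.trans h1)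
    · exact Or.inl (by rw [h2, h1, neg_neg])

theorem comm_gi (j : Fin N) (L : List (Fin N)) :
    γ j * gi γ L = (-1 : ℂ) ^ (L.filter (fun a => a ≠ j)).length • (gi γ L * γ j) := by
  have h1 := h.comm_gl j L
  set s : ℂ := (-1 : ℂ) ^ (L.filter (fun a => a ≠ j)).length with hs
  have hss : s * s = 1 := by
    rw [hs, ← pow_add, ← two_mul, pow_mul]
    simp
  have h2 : gi γ L * γ j = s • (γ j * gi γ L) := by
    calc gi γ L * γ j = gi γ L * (γ j * gl γ L) * gi γ L := by
          rw [← mul_assoc, mul_assoc (gi γ L * γ j), h.gl_mul_gi, mul_one]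
      _ = s • (γ j * gi γ L) := by
          rw [h1, Matrix.mul_smul, Matrix.smul_mul, ← mul_assoc, h.gi_mul_gl, one_mul]
  rw [h2, smul_smul, hss, one_smul]

/-- distinct monomials of the same length -/
theorem trace_ne {L L' : List (Fin N)} (hL : L.Nodup) (hl : L.length = L'.length) {k : Fin N} (hk : k ∈ L)
    (hk' : k ∉ L') : trace (gl γ L * gi γ L') = 0 := by
  have e1 : (L.filter (fun a => a ≠ k)).length + 1 = L.length := by
    have h1 := List.length_eq_length_filter_add (l := L) (fun a => a ≠ k)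
    have h2 : (L.filter (fun a => !(decide (a ≠ k)))).length = 1 := by
      have h3 : L.filter (fun a => !(decide (a ≠ k))) = L.filter (fun a => a = k) := by
        congr 1
        funext a
        simp
      rw [h3, ← List.countP_eq_length_filter]
      exact List.count_eq_one_of_mem hL hk
    omega
  have e2 : (L'.filter (fun a => a ≠ k)).length = L'.length := by
    rw [List.filter_eq_self.2]
    intro a ha
    simp only [ne_eq, decide_not, Bool.not_eq_eq_eq_not, Bool.not_true, decide_eq_false_iff_not]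
    rintro rfl
    exact hk' ha
  have h1 := h.comm_gl k L
  have h2 := h.comm_gi k L'
  rw [e2, ← hl, ← e1] at h2
  set s : ℂ := (-1 : ℂ) ^ (L.filter (fun a => a ≠ k)).length with hs
  have hss : s * s = 1 := by
    rw [hs, ← pow_add, ← two_mul, pow_mul]
    simp
  refine trace_eq_zero (C := γ k) (D := -γ k) (by rw [mul_neg, h.sq, neg_neg]) ?_
  calc γ k * (gl γ L * gi γ L') = s • (gl γ L * (γ k * gi γ L')) := by
        rw [← mul_assoc, h1, Matrix.smul_mul, mul_assoc]
    _ = (s * (s * -1)) • (gl γ L * gi γ L' * γ k) := by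
        rw [h2, pow_succ, Matrix.mul_smul, smul_smul, mul_assoc]
    _ = _ := by rw [← mul_assoc, hss, one_mul, neg_smul, one_smul]

end Gam

/-- `A` permutes the `γ i` -/
structure Per (γ : Fin N → Matrix ι ι ℂ) (σ : Equiv.Perm (Fin N)) (A B : Matrix ι ι ℂ) : Prop where
  inv : A * B = 1
  eqv : ∀ i, A * γ i = γ (σ i) * A

namespace Per

variable {σ : Equiv.Perm (Fin N)} {A B : Matrix ι ι ℂ} (p : Per γ σ A B)
include p

theorem gl (L : List (Fin N)) : A * Spin.gl γ L = Spin.gl γ (L.map σ) * A := by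
  induction L with
  | nil => simp [Spin.gl]
  | cons a L ih =>
    show A * (γ a * Spin.gl γ L) = γ (σ a) * Spin.gl γ (L.map σ) * A
    rw [← mul_assoc, p.eqv, mul_assoc, ih, mul_assoc]

theorem gi (L : List (Fin N)) : A * Spin.gi γ L = Spin.gi γ (L.map σ) * A := by
  induction L with
  | nil => simp [Spin.gi]
  | cons a L ih =>
    show A * (Spin.gi γ L * -γ a) = Spin.gi γ (L.map σ) * -γ (σ a) * A
    rw [← mul_assoc, ih, mul_assoc, mul_neg, p.eqv, ← neg_mul, mul_assoc]

theorem pow (m : ℕ) : ∀ i, A ^ m * γ i = γ ((σ ^ m) i) * A ^ m := by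
  induction m with
  | zero => intro i; simp
  | succ m ih =>
    intro i
    rw [pow_succ, mul_assoc, p.eqv, ← mul_assoc, ih, mul_assoc, pow_succ σ, Equiv.Perm.mul_apply]

theorem TI_mul (_h : Gam γ) (I : Finset (Fin N)) : TI γ I A * B =
    Spin.gl γ (I.sort (· ≤ ·)) * Spin.gi γ ((I.sort (· ≤ ·)).map σ) := by
  rw [Gam.TI_apply, mul_assoc (Spin.gl γ _) A, p.gi]
  calc Spin.gl γ (I.sort (· ≤ ·)) * (Spin.gi γ ((I.sort (· ≤ ·)).map σ) * A) * B =
      Spin.gl γ (I.sort (· ≤ ·)) * Spin.gi γ ((I.sort (· ≤ ·)).map σ) * (A * B) := by noncomm_ring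
    _ = _ := by rw [p.inv, mul_one]

/-- monomials of non-invariant sets -/
theorem trace_TI_ne (h : Gam γ) {I : Finset (Fin N)} (hI : I.map σ.toEmbedding ≠ I) : trace (TI γ I A * B) = 0 := by
  rw [p.TI_mul h]
  obtain ⟨k, hk, hk'⟩ : ∃ k ∈ I, k ∉ I.map σ.toEmbedding := by
    by_contra hc
    push Not at hc
    exact hI (Finset.eq_of_subset_of_card_le hc (by rw [Finset.card_map])).symm
  refine h.trace_ne (k := k) (Finset.sort_nodup _ _) (by rw [List.length_map]) ((Finset.mem_sort _).2 hk) ?_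
  intro hk2
  apply hk'
  obtain ⟨y, hy, he⟩ := List.mem_map.1 hk2
  exact Finset.mem_map.2 ⟨y, (Finset.mem_sort _).1 hy, he⟩

/-- monomials of invariant sets, odd order -/
theorem trace_TI_eq [Nonempty ι] (h : Gam γ) {I : Finset (Fin N)} (hI : I.map σ.toEmbedding = I) {m : ℕ} (hm : Odd m)
    (hσ : σ ^ m = 1) : trace (TI γ I A * B) = Fintype.card ι := by
  rw [p.TI_mul h]
  set L := I.sort (· ≤ ·) with hL
  have hp : L.Perm (L.map σ) := by
    rw [← Multiset.coe_eq_coe, ← Multiset.map_coe, hL, Finset.sort_eq]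
    conv_lhs => rw [← hI]
    rfl
  rcases h.gl_perm hp (Finset.sort_nodup _ _) with h1 | h1
  · have h2 : Spin.gl γ L * Spin.gi γ (L.map σ) = 1 := by rw [← h1, h.gl_mul_gi]
    rw [h2, trace_one]
  · exfalso
    have h2 : ∀ m : ℕ, A ^ m * Spin.gl γ L = (-1 : ℂ) ^ m • (Spin.gl γ L * A ^ m) := by
      intro m
      induction m with
      | zero => simp
      | succ m ih =>
        rw [pow_succ, mul_assoc, p.gl, h1, ← mul_assoc, mul_neg, ih, neg_mul, Matrix.smul_mul, mul_assoc,
          ← pow_succ, pow_succ (-1 : ℂ), mul_neg_one, neg_smul]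
    have h3 := h2 m
    rw [hm.neg_one_pow, neg_one_smul] at h3
    have h4 : A ^ m * Spin.gl γ L = Spin.gl γ L * A ^ m := by
      have h5 : ∀ L : List (Fin N), A ^ m * Spin.gl γ L = Spin.gl γ L * A ^ m := by
        intro L
        induction L with
        | nil => simp [Spin.gl]
        | cons a L ih =>
          show A ^ m * (γ a * Spin.gl γ L) = γ a * Spin.gl γ L * A ^ m
          rw [← mul_assoc, p.pow m a, hσ, Equiv.Perm.one_apply, mul_assoc, ih, mul_assoc]
      exact h5 L
    have h6 : Spin.gl γ L * A ^ m = 0 := by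
      rw [h4] at h3
      have h7 : (2 : ℂ) • (Spin.gl γ L * A ^ m) = 0 := by
        rw [two_smul]
        nth_rewrite 2 [h3]
        rw [add_neg_cancel]
      simpa using h7
    have h8 : A ^ m * B ^ m = 1 := by
      have hBA : B * A = 1 := mul_eq_one_comm.1 p.inv
      have hc : Commute A B := by rw [Commute, SemiconjBy, p.inv, hBA]
      rw [← hc.mul_pow, p.inv, one_pow]
    have h9 : (1 : Matrix ι ι ℂ) = 0 := by
      calc (1 : Matrix ι ι ℂ) = Spin.gi γ L * Spin.gl γ L * (A ^ m * B ^ m) := by rw [h8, h.gi_mul_gl, mul_one]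
        _ = Spin.gi γ L * (Spin.gl γ L * A ^ m) * B ^ m := by noncomm_ring
        _ = 0 := by rw [h6]; simp
    exact one_ne_zero h9

/-- an even cycle -/
theorem trace_even (h : Gam γ) {x : Fin N} {W : List (Fin N)} (hx : x ∉ W) (hW : Odd W.length)
    (hσ : (x :: W).map σ = W ++ [x]) : trace A = 0 := by
  have h1 := p.gl (x :: W)
  rw [hσ] at h1
  have h2 : Spin.gl γ (W ++ [x]) = -Spin.gl γ (x :: W) := by
    have e1 : Spin.gl γ (W ++ [x]) = Spin.gl γ W * γ x := by
      unfold Spin.gl
      rw [List.map_append, List.prod_append]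
      simp
    have e2 : Spin.gl γ (x :: W) = γ x * Spin.gl γ W := rfl
    have e3 : (W.filter (fun a => a ≠ x)).length = W.length := by
      rw [List.filter_eq_self.2]
      intro a ha
      simp only [ne_eq, decide_not, Bool.not_eq_eq_eq_not, Bool.not_true, decide_eq_false_iff_not]
      rintro rfl
      exact hx ha
    rw [e1, e2, h.comm_gl, e3, hW.neg_one_pow, neg_one_smul, neg_neg]
  rw [h2, neg_mul] at h1
  refine trace_eq_zero (h.gl_mul_gi (x :: W)) ?_
  rw [h1, neg_neg]

end Per

end Cfsg.Agent.H96.Spin
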